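import Cfsg.Agent.Lib.J4Type.Data
import Mathlib

/-!
Additive maps on the codes of the model, the pairing of the two halves and the symmetries that respect it.
-/

set_option autoImplicit false

namespace CfsgLib.J4Type.Classify

/-- A map of numbers below `n` that respects exclusive or. -/
def IsLin (n : ℕ) (f : ℕ → ℕ) : Prop :=
  (∀ x < n, f x < n) ∧ ∀ x < n, ∀ y < n, f (Nat.xor x y) = Nat.xor (f x) (f y)

theorem xor_comm4 (a b c d : ℕ) : Nat.xor (Nat.xor a b) (Nat.xor c d) = Nat.xor (Nat.xor a c) (Nat.xor b d) := by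
  change (a ^^^ b) ^^^ (c ^^^ d) = (a ^^^ c) ^^^ (b ^^^ d)
  ac_rfl

theorem xor_self' (a : ℕ) : Nat.xor a a = 0 := Nat.xor_self a

theorem xor_eq_zero' {a b : ℕ} (h : Nat.xor a b = 0) : a = b := Nat.xor_eq_zero_iff.mp h

theorem xor_zero_left (a : ℕ) : Nat.xor 0 a = a := Nat.zero_xor a

theorem xor_zero_right (a : ℕ) : Nat.xor a 0 = a := Nat.xor_zero a

theorem xor_lt {k a b : ℕ} (ha : a < 2 ^ k) (hb : b < 2 ^ k) : Nat.xor a b < 2 ^ k :=
  Nat.xor_lt_two_pow ha hb

theorem xor_lt64 {a b : ℕ} (ha : a < 64) (hb : b < 64) : Nat.xor a b < 64 :=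
  xor_lt (k := 6) ha hb

theorem xor_lt4096 {a b : ℕ} (ha : a < 4096) (hb : b < 4096) : Nat.xor a b < 4096 :=
  xor_lt (k := 12) ha hb

theorem xor_div_two (x y : ℕ) : Nat.xor x y / 2 = Nat.xor (x / 2) (y / 2) := by
  change (x ^^^ y) / 2 = (x / 2) ^^^ (y / 2)
  simpa [Nat.shiftRight_eq_div_pow] using (Nat.shiftRight_xor_distrib (a := x) (b := y) (i := 1))

theorem xor_mod_two (x y : ℕ) : Nat.xor x y % 2 = 1 ↔ ¬ (x % 2 = 1 ↔ y % 2 = 1) := by
  change (x ^^^ y) % 2 = 1 ↔ _
  rw [Nat.xor_mod_two_eq_one]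

theorem app_xor (cs : List ℕ) : ∀ x y : ℕ, app cs (Nat.xor x y) = Nat.xor (app cs x) (app cs y) := by
  induction cs with
  | nil => intro x y; exact (xor_zero_left 0).symm
  | cons c cs ih =>
    intro x y
    simp only [app]
    rw [xor_div_two, ih, xor_comm4]
    congr 1
    have := xor_mod_two x y
    split_ifs <;> simp_all

theorem app_lt {k : ℕ} : ∀ {cs : List ℕ}, (∀ c ∈ cs, c < 2 ^ k) → ∀ x, app cs x < 2 ^ k := by
  intro cs
  induction cs with
  | nil => intro _ x; exact Nat.two_pow_pos k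
  | cons c cs ih =>
    intro h x
    simp only [app]
    refine xor_lt ?_ (ih (fun d hd => h d (List.mem_cons_of_mem c hd)) _)
    split_ifs
    · exact h c List.mem_cons_self
    · exact Nat.two_pow_pos k

theorem isLin_app {k : ℕ} {cs : List ℕ} (h : ∀ c ∈ cs, c < 2 ^ k) : IsLin (2 ^ k) (app cs) :=
  ⟨fun x _ => app_lt h x, fun x _ y _ => app_xor cs x y⟩

namespace IsLin

variable {n : ℕ} {f g : ℕ → ℕ}

theorem zero (h : IsLin n f) (hn : 0 < n) : f 0 = 0 := by
  have := h.2 0 hn 0 hn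
  rwa [xor_self', xor_self'] at this

theorem comp (hf : IsLin n f) (hg : IsLin n g) : IsLin n (fun x => f (g x)) :=
  ⟨fun x hx => hf.1 _ (hg.1 x hx), fun x hx y hy => by
    show f (g _) = _
    rw [hg.2 x hx y hy, hf.2 _ (hg.1 x hx) _ (hg.1 y hy)]⟩

end IsLin

theorem eq_app_of_xor : ∀ k : ℕ, ∀ f : ℕ → ℕ,
    (∀ x < 2 ^ k, ∀ y < 2 ^ k, f (Nat.xor x y) = Nat.xor (f x) (f y)) →
      ∀ x < 2 ^ k, f x = app (List.ofFn fun i : Fin k => f (2 ^ i.val)) x := by
  intro k
  induction k with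
  | zero =>
    intro f h x hx
    have e := h 0 (by norm_num) 0 (by norm_num)
    rw [xor_self', xor_self'] at e
    have : x = 0 := by simpa using hx
    subst this
    simpa [app] using e
  | succ k ih =>
    intro f h x hx
    have hp : 2 ^ (k + 1) = 2 * 2 ^ k := by rw [pow_succ]; ring
    have hd : x / 2 < 2 ^ k := by omega
    have e2 : ∀ y z : ℕ, Nat.xor (2 * y) (2 * z) = 2 * Nat.xor y z := by
      intro y z
      apply Nat.eq_of_testBit_eq
      intro i
      change ((2 * y) ^^^ (2 * z)).testBit i = (2 * (y ^^^ z)).testBit i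
      rw [Nat.testBit_xor]
      cases i with
      | zero => simp [Nat.testBit_zero]
      | succ i => simp [Nat.testBit_succ, Nat.mul_div_cancel_left, Nat.testBit_xor]
    have hs := ih (fun y => f (2 * y)) (fun a ha b hb => by
      show f (2 * _) = _
      rw [← e2, h _ (by omega) _ (by omega)]) (x / 2) hd
    have hx' : x = Nat.xor (x % 2) (2 * (x / 2)) := by
      apply Nat.eq_of_testBit_eq
      intro i
      change x.testBit i = ((x % 2) ^^^ (2 * (x / 2))).testBit i
      cases i with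
      | zero => simp [Nat.testBit_zero, Nat.testBit_xor]
      | succ i =>
        have : x % 2 / 2 = 0 := by omega
        rw [Nat.testBit_xor, Nat.testBit_succ (x % 2), this, Nat.zero_testBit, Nat.testBit_succ (2 * _),
          Nat.mul_div_cancel_left _ (by norm_num : 0 < 2), Nat.testBit_succ x]
        simp
    have hh := h (x % 2) (by omega) (2 * (x / 2)) (by omega)
    rw [← hx'] at hh
    rw [hh, List.ofFn_succ]
    simp only [app]
    congr 1
    · split_ifs with hm
      · rw [hm]; rfl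
      · have e0 : x % 2 = 0 := by omega
        have := h 0 (by omega) 0 (by omega)
        rw [xor_self', xor_self'] at this
        rw [e0, this]
    · rw [hs]
      congr 1
      congr 1
      funext i
      simp [pow_succ, mul_comm]

theorem ext_of_bits {k : ℕ} {f g : ℕ → ℕ}
    (hf : ∀ x < 2 ^ k, ∀ y < 2 ^ k, f (Nat.xor x y) = Nat.xor (f x) (f y))
    (hg : ∀ x < 2 ^ k, ∀ y < 2 ^ k, g (Nat.xor x y) = Nat.xor (g x) (g y))
    (h : ∀ i < k, f (2 ^ i) = g (2 ^ i)) : ∀ x < 2 ^ k, f x = g x := by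
  intro x hx
  rw [eq_app_of_xor k f hf x hx, eq_app_of_xor k g hg x hx]
  congr 1
  congr 1
  funext i
  exact h i.val i.isLt

/-- The six basis codes. -/
def bits6 : List ℕ := [1, 2, 4, 8, 16, 32]

/-- The twelve basis codes. -/
def bits12 : List ℕ := [1, 2, 4, 8, 16, 32, 64, 128, 256, 512, 1024, 2048]

theorem ext64 {f g : ℕ → ℕ} (hf : IsLin 64 f) (hg : IsLin 64 g) (h : ∀ e ∈ bits6, f e = g e) :
    ∀ x < 64, f x = g x :=
  ext_of_bits (k := 6) hf.2 hg.2 fun i hi => h _ (by interval_cases i <;> simp [bits6])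

theorem ext4096 {f g : ℕ → ℕ} (hf : IsLin 4096 f) (hg : IsLin 4096 g) (h : ∀ e ∈ bits12, f e = g e) :
    ∀ x < 4096, f x = g x :=
  ext_of_bits (k := 12) hf.2 hg.2 fun i hi => h _ (by interval_cases i <;> simp [bits12])

/-- The scalar on the first half. -/
def tl (x : ℕ) : ℕ := app [3, 1, 12, 4, 48, 16] x

/-- The pairing of the two halves. -/
def pr (x y : ℕ) : Bool := qn (Nat.xor x (64 * y))

theorem tl_lt (x : ℕ) : tl x < 64 := app_lt (k := 6) (by decide) x

theorem tl_xor (x y : ℕ) : tl (Nat.xor x y) = Nat.xor (tl x) (tl y) := app_xor _ x y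

theorem colsT_low : ∀ x < 64, app colsT x = tl x := by decide +kernel

theorem colsT_high : ∀ y < 64, app colsT (64 * y) = 64 * tl y := by decide +kernel

theorem split_code_aux : ∀ a < 64, ∀ b < 64, 64 * a + b = Nat.xor b (64 * a) := by decide +kernel

theorem split_code (v : ℕ) (hv : v < 4096) : v = Nat.xor (v % 64) (64 * (v / 64)) := by
  have := split_code_aux (v / 64) (by omega) (v % 64) (Nat.mod_lt _ (by norm_num))
  omega

theorem split_mod : ∀ x < 64, ∀ y < 64, Nat.xor x (64 * y) % 64 = x ∧ Nat.xor x (64 * y) / 64 = y := by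
  decide +kernel

theorem split_lt {x y : ℕ} (hx : x < 64) (hy : y < 64) : Nat.xor x (64 * y) < 4096 :=
  xor_lt4096 (by omega) (by omega)

theorem colsT_split {x y : ℕ} (hx : x < 64) (hy : y < 64) :
    app colsT (Nat.xor x (64 * y)) = Nat.xor (tl x) (64 * tl y) := by
  rw [app_xor, colsT_low x hx, colsT_high y hy]

/-- The mask of the partner bits. -/
def sw (y : ℕ) : ℕ := app [2, 1, 8, 4, 32, 16] y

/-- The parity of a number below `64`. -/
def par (z : ℕ) : Bool := ((List.range 6).countP fun i => Nat.testBit z i) % 2 == 1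

theorem pr_eq : ∀ x < 64, ∀ y < 64, pr x y = par (Nat.land x (sw y)) := by decide +kernel

theorem par_xor : ∀ z < 64, ∀ w < 64, par (Nat.xor z w) = xor (par z) (par w) := by decide +kernel

theorem pr_symm : ∀ x < 64, ∀ y < 64, pr x y = pr y x := by decide +kernel

theorem pr_tl : ∀ x < 64, ∀ y < 64, pr (tl x) (tl y) = pr x y := by decide +kernel

theorem pr_xor_left {x x' y : ℕ} (hx : x < 64) (hx' : x' < 64) (hy : y < 64) :
    pr (Nat.xor x x') y = xor (pr x y) (pr x' y) := by
  rw [pr_eq _ (xor_lt64 hx hx') _ hy, pr_eq _ hx _ hy, pr_eq _ hx' _ hy]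
  have hs : sw y < 64 := app_lt (k := 6) (by decide) y
  have e : Nat.land (Nat.xor x x') (sw y) = Nat.xor (Nat.land x (sw y)) (Nat.land x' (sw y)) :=
    Nat.and_xor_distrib_right
  rw [e]
  exact par_xor _ (lt_of_le_of_lt Nat.and_le_left hx) _ (lt_of_le_of_lt Nat.and_le_left hx')

theorem pr_xor_right {x y y' : ℕ} (hx : x < 64) (hy : y < 64) (hy' : y' < 64) :
    pr x (Nat.xor y y') = xor (pr x y) (pr x y') := by
  rw [pr_symm _ hx _ (xor_lt64 hy hy'), pr_xor_left hy hy' hx, pr_symm _ hx _ hy, pr_symm _ hx _ hy']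

theorem pr_bits_zero : ∀ y < 64, (∀ e ∈ bits6, pr e y = false) → y = 0 := by decide +kernel

theorem eq_of_pr_left {y y' : ℕ} (hy : y < 64) (hy' : y' < 64) (h : ∀ e ∈ bits6, pr e y = pr e y') :
    y = y' := by
  refine xor_eq_zero' (pr_bits_zero _ (xor_lt64 hy hy') fun e he => ?_)
  have he' : e < 64 := by revert he; simp [bits6]; omega
  rw [pr_xor_right he' hy hy', h e he]
  cases pr e y' <;> rfl

theorem eq_zero_of_pr {y : ℕ} (hy : y < 64) (h : ∀ x < 64, pr x y = false) : y = 0 :=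
  pr_bits_zero y hy fun e he => h e (by revert he; simp [bits6]; omega)

theorem qn_zero_low : ∀ x < 64, qn x = false := by decide +kernel

theorem qn_zero_high : ∀ y < 64, qn (64 * y) = false := by decide +kernel

/-- A symmetry of the form that preserves both halves and commutes with the scalar. -/
structure Sym (f : ℕ → ℕ) : Prop where
  lin : IsLin 4096 f
  qn_inv : ∀ v < 4096, qn (f v) = qn v
  comm_T : ∀ v < 4096, f (app colsT v) = app colsT (f v)
  low : ∀ x < 64, f x < 64
  high : ∀ y < 64, f (64 * y) % 64 = 0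

namespace Sym

variable {f g : ℕ → ℕ}

theorem zero (h : Sym f) : f 0 = 0 := h.lin.zero (by norm_num)

/-- The action on the second half. -/
def hi (f : ℕ → ℕ) (y : ℕ) : ℕ := f (64 * y) / 64

theorem hi_spec (h : Sym f) {y : ℕ} (hy : y < 64) : hi f y < 64 ∧ f (64 * y) = 64 * hi f y := by
  have h1 := h.lin.1 (64 * y) (by omega)
  have h2 := h.high y hy
  unfold hi
  omega

theorem split (h : Sym f) {x y : ℕ} (hx : x < 64) (hy : y < 64) :
    f (Nat.xor x (64 * y)) = Nat.xor (f x) (64 * hi f y) := by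
  rw [h.lin.2 x (by omega) _ (by omega), (h.hi_spec hy).2]

theorem pr_inv (h : Sym f) {x y : ℕ} (hx : x < 64) (hy : y < 64) : pr (f x) (hi f y) = pr x y := by
  have := h.qn_inv _ (split_lt hx hy)
  rwa [h.split hx hy] at this

theorem linLow (h : Sym f) : IsLin 64 f :=
  ⟨h.low, fun x hx y hy => h.lin.2 x (by omega) y (by omega)⟩

theorem comm_tl (h : Sym f) {x : ℕ} (hx : x < 64) : f (tl x) = tl (f x) := by
  rw [← colsT_low x hx, h.comm_T x (by omega), colsT_low _ (h.low x hx)]

theorem eq_zero (h : Sym f) {v : ℕ} (hv : v < 4096) (e : f v = 0) : v = 0 := by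
  have hx : v % 64 < 64 := Nat.mod_lt _ (by norm_num)
  have hy : v / 64 < 64 := by omega
  rw [split_code v hv, h.split hx hy] at e
  obtain ⟨e1, e2⟩ := split_mod _ (h.low _ hx) _ (h.hi_spec hy).1
  rw [e] at e1 e2
  have x0 : v % 64 = 0 := by
    refine eq_zero_of_pr hx fun w hw => ?_
    rw [pr_symm _ hw _ hx, ← h.pr_inv hx hw, ← e1, pr_symm _ (by norm_num) _ (h.hi_spec hw).1]
    exact qn_zero_low _ (by simpa [pr, xor_zero_right] using (h.hi_spec hw).1)
  have y0 : v / 64 = 0 := by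
    refine eq_zero_of_pr hy fun w hw => ?_
    rw [← h.pr_inv hw hy, ← e2]
    exact qn_zero_low _ (by simpa [pr, xor_zero_right] using h.low w hw)
  omega

theorem inj (h : Sym f) {v w : ℕ} (hv : v < 4096) (hw : w < 4096) (e : f v = f w) : v = w :=
  xor_eq_zero' (h.eq_zero (xor_lt4096 hv hw) (by rw [h.lin.2 v hv w hw, e, xor_self']))

theorem exists_inv (h : Sym f) : ∃ g, Sym g ∧ ∀ v < 4096, g (f v) = v ∧ f (g v) = v := by
  classical
  let F : Fin 4096 → Fin 4096 := fun v => ⟨f v.val, h.lin.1 v.val v.isLt⟩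
  have hF : Function.Injective F := fun a b e =>
    Fin.ext (h.inj a.isLt b.isLt (congrArg Fin.val e))
  obtain ⟨G, hG⟩ := ((Finite.injective_iff_surjective).1 hF).hasRightInverse
  let g : ℕ → ℕ := fun v => if hv : v < 4096 then (G ⟨v, hv⟩).val else v
  have hfg : ∀ v < 4096, f (g v) = v := fun v hv => by
    simp only [g, dif_pos hv]
    exact congrArg Fin.val (hG ⟨v, hv⟩)
  have hgl : ∀ v < 4096, g v < 4096 := fun v hv => by
    simp only [g, dif_pos hv]
    exact Fin.isLt _
  have hgf : ∀ v < 4096, g (f v) = v := fun v hv =>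
    h.inj (hgl _ (h.lin.1 v hv)) hv (hfg _ (h.lin.1 v hv))
  have hT : ∀ v < 4096, app colsT v < 4096 := fun v _ => app_lt (k := 12) (by decide) v
  refine ⟨g, ⟨⟨hgl, fun x hx y hy => h.inj (hgl _ (xor_lt4096 hx hy)) (xor_lt4096 (hgl x hx) (hgl y hy)) ?_⟩,
    fun v hv => ?_, fun v hv => ?_, fun x hx => ?_, fun y hy => ?_⟩, fun v hv => ⟨hgf v hv, hfg v hv⟩⟩
  · rw [hfg _ (xor_lt4096 hx hy), h.lin.2 _ (hgl x hx) _ (hgl y hy), hfg x hx, hfg y hy]
  · rw [← h.qn_inv _ (hgl v hv), hfg v hv]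
  · refine h.inj (hgl _ (hT v hv)) (hT _ (hgl v hv)) ?_
    rw [hfg _ (hT v hv), h.comm_T _ (hgl v hv), hfg v hv]
  · have hv := hgl x (by omega)
    have hw := hfg x (by omega)
    rw [split_code _ hv, h.split (Nat.mod_lt _ (by norm_num)) (by omega)] at hw
    obtain ⟨e1, e2⟩ := split_mod _ (h.low (g x % 64) (Nat.mod_lt _ (by norm_num))) _
      (h.hi_spec (y := g x / 64) (by omega)).1
    rw [hw] at e1 e2
    have : g x / 64 = 0 := by
      have hy0 : hi f (g x / 64) = 0 := by omega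
      have : f (64 * (g x / 64)) = 0 := by rw [(h.hi_spec (by omega)).2, hy0]
      have := h.eq_zero (by omega) this
      omega
    omega
  · have hv := hgl (64 * y) (by omega)
    have hw := hfg (64 * y) (by omega)
    rw [split_code _ hv, h.split (Nat.mod_lt _ (by norm_num)) (by omega)] at hw
    obtain ⟨e1, e2⟩ := split_mod _ (h.low (g (64 * y) % 64) (Nat.mod_lt _ (by norm_num))) _
      (h.hi_spec (y := g (64 * y) / 64) (by omega)).1
    rw [hw] at e1 e2
    have hx0 : f (g (64 * y) % 64) = 0 := by omega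
    have := h.eq_zero (by omega) hx0
    omega

theorem comp (hf : Sym f) (hg : Sym g) : Sym (fun v => f (g v)) where
  lin := hf.lin.comp hg.lin
  qn_inv v hv := by
    show qn (f (g v)) = _
    rw [hf.qn_inv _ (hg.lin.1 v hv), hg.qn_inv v hv]
  comm_T v hv := by
    show f (g _) = _
    rw [hg.comm_T v hv, hf.comm_T _ (hg.lin.1 v hv)]
  low x hx := hf.low _ (hg.low x hx)
  high y hy := by
    show f (g _) % 64 = 0
    rw [(hg.hi_spec hy).2]
    exact hf.high _ (hg.hi_spec hy).1

theorem congr_low (hf : Sym f) (hg : Sym g) (e : ∀ x < 64, f x = g x) : ∀ v < 4096, f v = g v := by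
  intro v hv
  have hx : v % 64 < 64 := Nat.mod_lt _ (by norm_num)
  have hy : v / 64 < 64 := by omega
  rw [split_code v hv, hf.split hx hy, hg.split hx hy, e _ hx]
  congr 2
  refine eq_of_pr_left (hf.hi_spec hy).1 (hg.hi_spec hy).1 fun w hw => ?_
  have hw' : w < 64 := by revert hw; simp [bits6]; omega
  obtain ⟨k, hk', hk⟩ := hf.exists_inv
  have hkw : k w < 64 := hk'.low w hw'
  have hkw' := (hk w (by omega)).2
  rw [← hkw', hf.pr_inv hkw hy, e _ hkw, hg.pr_inv hkw hy]

end Sym

end CfsgLib.J4Type.Classify
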