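import Cfsg.Agent.Lib.J4Type.Classify.Basic

/-!
The finite checks for the classification of the pairs of maps and their equivariant forms.
-/

set_option autoImplicit false

namespace CfsgLib.J4Type.Classify

/-- The multiples of a code: zero, itself and its two scalar images. -/
def sm (k u : ℕ) : ℕ :=
  if k = 0 then 0 else if k = 1 then u else if k = 2 then tl u else tl (tl u)

/-- The six columns given by the images of the three basis vectors. -/
def cols3 (a b c : ℕ) : List ℕ := [a, tl (tl a), b, tl (tl b), c, tl (tl c)]

/-- The value of a word (`false` is `A`), the first letter acting last. -/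
def evL (A C : ℕ → ℕ) : List Bool → ℕ → ℕ
  | [], x => x
  | b :: w, x => (if b then C else A) (evL A C w x)

/-- The selected members of a family, the first acting last. -/
def evRL (r : Fin 4 → ℕ → ℕ) (m v : ℕ) : ℕ :=
  (if Nat.testBit m 0 then r 0 else id) ((if Nat.testBit m 1 then r 1 else id)
    ((if Nat.testBit m 2 then r 2 else id) ((if Nat.testBit m 3 then r 3 else id) v)))

/-- The first six columns of `c`. -/
def cLow : List ℕ := [1, 2, 5, 10, 20, 40]

/-- Some consequences of the relations on the first half. -/
def okA (a : List ℕ) : Bool :=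
  (app a (app a 16) == 16) && (app a (app a 4) == 4) && (app a (app a 1) == 1) &&
  ((fun v => app a (app cLow (app cLow v)))^[5] 16 == 16) &&
  (evL (app a) (app cLow) wX (evL (app a) (app cLow) wY 16) ==
    tl (evL (app a) (app cLow) wY (evL (app a) (app cLow) wX 16)))

/-- The solutions of the relations, by the images of the three basis vectors. -/
def solA : List (List ℕ) := [[38, 61, 14], [62, 59, 16], [57, 32, 12], [49, 4, 16], [39, 63, 16], [63, 58, 7], [47, 29, 16], [44, 31, 38], [35, 38, 50], [42, 4, 45], [36, 62, 42], [54, 29, 9], [41, 4, 16], [46, 30, 10], [51, 4, 49], [56, 35, 16], [37, 60, 52], [33, 36, 16], [50, 4, 35], [61, 56, 44], [59, 33, 42], [45, 28, 60], [52, 30, 37], [58, 34, 54], [34, 39, 33], [60, 57, 59], [48, 4, 2], [55, 31, 16], [43, 4, 58], [53, 28, 60], [40, 4, 7], [32, 37, 3]]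

/-- The elements commuting with `c`, up to scalars. -/
def centP (m n : ℕ) : List ℕ := cols3 1 (Nat.xor 4 (sm m 1)) (Nat.xor (Nat.xor 16 (sm m 4)) (sm n 1))

/-- The second kind of `a`. -/
def colsB : List ℕ := [38, 59, 61, 22, 14, 7, 3520, 1600, 2624, 3968, 704, 832]

/-- Whether the candidate is either no solution or listed. -/
def candOK (u i j k : ℕ) : Bool :=
  u == 0 || !okA (cols3 (Nat.xor 1 (sm i u)) (Nat.xor 4 (sm j u)) (Nat.xor 16 (sm k u))) ||
    solA.contains [Nat.xor 1 (sm i u), Nat.xor 4 (sm j u), Nat.xor 16 (sm k u)]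

theorem check_cands : ((List.range 64).all fun u => (List.range 4).all fun i => (List.range 4).all fun j =>
    (List.range 4).all fun k => candOK u i j k) = true := by
  decide +kernel

/-- Whether the solution with images `l` is conjugate to one of the two kinds. -/
def isConj (l : List ℕ) : Bool :=
  (List.range 4).any fun m => (List.range 4).any fun n =>
    (bits6.all fun x => app (centP m n) (app cLow x) == app cLow (app (centP m n) x)) &&
    ((bits6.all fun x => app (centP m n) (app (cols3 (l.getD 0 0) (l.getD 1 0) (l.getD 2 0)) x) ==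
        app colsA (app (centP m n) x)) ||
      (bits6.all fun x => app (centP m n) (app (cols3 (l.getD 0 0) (l.getD 1 0) (l.getD 2 0)) x) ==
        app colsB (app (centP m n) x)))

theorem check_conj : solA.all isConj = true := by decide +kernel

theorem centP_bij : ∀ m < 4, ∀ n < 4, ∀ x < 64, app (centP m n) x = 0 → x = 0 := by decide +kernel

/-- The map given by a form on the second half. -/
def emb (w1 w2 w3 v : ℕ) : ℕ := Nat.xor v (app (cols3 w1 w2 w3) (v / 64))

/-- The family determined by its first member. -/
def fam (a : List ℕ) (r0 : ℕ → ℕ) : Fin 4 → ℕ → ℕ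
  | 0 => r0
  | 1 => fun v => app a (r0 (app a v))
  | 2 => fun v => app colsC (app colsC (r0 (app colsC (app colsC v))))
  | 3 => fun v => app colsC (r0 (app colsC (app colsC (app colsC v))))

/-- Some consequences of equivariance of the family with the given form. -/
def okR (a : List ℕ) (w1 w2 w3 : ℕ) : Bool :=
  [64, 256, 1024].all fun v =>
    (app a (fam a (emb w1 w2 w3) 2 v) == fam a (emb w1 w2 w3) 2 (app a v)) &&
    (app colsC (fam a (emb w1 w2 w3) 1 v) == evRL (fam a (emb w1 w2 w3)) 15 (app colsC v)) &&
    (app a (fam a (emb w1 w2 w3) 3 v) == evRL (fam a (emb w1 w2 w3)) 12 (app a v)) &&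
    (app colsC (fam a (emb w1 w2 w3) 2 v) == evRL (fam a (emb w1 w2 w3)) 13 (app colsC v))

/-- The pairing, computed with a parity table. -/
def prf (x y : ℕ) : Bool := Nat.testBit 0x6996966996696996 (Nat.land x (sw y))

theorem prf_eq : ∀ x < 64, ∀ y < 64, prf x y = pr x y := by decide +kernel

/-- The symmetric forms, found by nested search. -/
def symForms : List (ℕ × ℕ × ℕ) :=
  ((List.range 64).filter fun w => !prf w 1).flatMap fun w1 =>
    ((List.range 64).filter fun w => !prf w 4 && prf w1 4 == prf w 1 && prf w1 8 == prf (tl (tl w)) 1 &&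
      prf (tl (tl w1)) 4 == prf w 2).flatMap fun w2 =>
      ((List.range 64).filter fun w => !prf w 16 && prf w1 16 == prf w 1 &&
        prf w1 32 == prf (tl (tl w)) 1 && prf w2 16 == prf w 4 &&
        prf w2 32 == prf (tl (tl w)) 4).map fun w3 => (w1, w2, w3)

theorem check_formsA : symForms.all (fun f => !okR colsA f.1 f.2.1 f.2.2 ||
    f == (0, 0, 0) || f == (57, 19, 6)) = true := by
  decide +kernel

theorem check_formsB : symForms.all (fun f => !okR colsB f.1 f.2.1 f.2.2 || f == (0, 0, 0)) = true := by
  decide +kernel

theorem check_famA : ∀ i : Fin 4, ∀ v ∈ bits12,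
    fam colsA (emb 57 19 6) i v = app (colsR.getD i.val []) v := by
  decide +kernel

end CfsgLib.J4Type.Classify
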